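import Cfsg.Agent.R2.Spec.P1.Exp

/-!
# Team T3 (S3435), box P1b: the exact tori of the isolated classes (helper15), definitions

* `top t i` : the isolated classes;
* `ttor t q i` : the exponent of the torus of the isolated class `i`;
* `TopFacts` : `elt` an element of order `ttor`, `ub` the orders divisible by a prime of the class divide `ttor`.
-/

set_option autoImplicit false

namespace Cfsg.Agent.R2.Spec.P1

open Cfsg Cfsg.Agent.H426.LieFam Cfsg.Agent.R2.Spec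

universe u

/-- the isolated classes -/
def top : Fam → ℕ → Prop
  | .psl n, i => 3 ≤ i ∧ (i = n ∨ i + 1 = n)
  | .psu n, i => 3 ≤ i ∧ (i = n ∨ i + 1 = n)
  | .psp n, i => i = 2 * n ∨ (i = n ∧ n % 2 = 1)
  | .oodd n, i => i = 2 * n ∨ (i = n ∧ n % 2 = 1)
  | .oplus n, i => (i = n ∧ n % 2 = 1) ∨ i = 2 * (n - 1) ∨ (i = n - 1 ∧ n % 2 = 0)
  | .ominus n, i => i = 2 * n ∨ i = 2 * (n - 1) ∨ (i = n - 1 ∧ n % 2 = 0)
  | _, _ => False

/-- the exponent of the torus of the isolated class `i` -/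
def ttor : Fam → ℕ → ℕ → ℕ
  | .psl n, q, i => if i = n then (q ^ n - 1) / ((q - 1) * Nat.gcd n (q - 1)) else (q ^ (n - 1) - 1) / Nat.gcd n (q - 1)
  | .psu n, q, i =>
    if i = n then (if n % 2 = 0 then q ^ n - 1 else q ^ n + 1) / ((q + 1) * Nat.gcd n (q + 1))
    else (if n % 2 = 0 then q ^ (n - 1) + 1 else q ^ (n - 1) - 1) / Nat.gcd n (q + 1)
  | .psp n, q, i => if i = 2 * n then (q ^ n + 1) / Nat.gcd 2 (q - 1) else (q ^ n - 1) / Nat.gcd 2 (q - 1)
  | .oodd n, q, i => if i = 2 * n then (q ^ n + 1) / Nat.gcd 2 (q - 1) else (q ^ n - 1) / Nat.gcd 2 (q - 1)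
  | .oplus n, q, i =>
    if i = n then (q ^ n - 1) / Nat.gcd 4 (q ^ n - 1)
    else if i = n - 1 then (q ^ (n - 1) - 1) / Nat.gcd 2 (q - 1)
    else if n % 2 = 0 then (q ^ (n - 1) + 1) / Nat.gcd 2 (q - 1)
    else (q ^ (n - 1) + 1) * (q + 1) / Nat.gcd 4 (q ^ n - 1)
  | .ominus n, q, i =>
    if i = 2 * n then (q ^ n + 1) / Nat.gcd 4 (q ^ n + 1)
    else if i = n - 1 then (q ^ (n - 1) - 1) * (q + 1) / Nat.gcd 4 (q ^ n + 1)
    else (q ^ (n - 1) + 1) * (q - 1) / Nat.gcd 4 (q ^ n + 1)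
  | _, _, _ => 0

/-- (the equations of `ttor` are cited once here, so that this file holds them) -/
theorem ttor_psp_eq (n q i : ℕ) : ttor (.psp n) q i =
    if i = 2 * n then (q ^ n + 1) / Nat.gcd 2 (q - 1) else (q ^ n - 1) / Nat.gcd 2 (q - 1) := by
  rw [ttor]

/-- **The exact tori of the isolated classes** (`p` odd) -/
structure TopFacts (t : Fam) (p f : ℕ) (X : Type u) [Group X] : Prop where
  elt : ∀ i : ℕ, top t i → ∃ x : X, orderOf x = ttor t (p ^ f) i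
  ub : ∀ r : ℕ, r.Prime → ¬ r ∣ p → top t (cls t (p ^ f) r) → ∀ x : X, r ∣ orderOf x →
    orderOf x ∣ ttor t (p ^ f) (cls t (p ^ f) r)

end Cfsg.Agent.R2.Spec.P1
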